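import Groth.Agent.BlowPerf46.Koszul
import Groth.Agent.CAlg9.BlowReg.ChartAlg
import Groth.Agent.RR50.Rees
import Groth.Agent.FlatMor67.PCFinite

/-!
The affine blow-up algebras of a regular sequence are perfect.
-/

set_option autoImplicit false

universe u

namespace Groth.Agent.BlowPerf46

open Koszul19 MvPolynomial CAlg9.BlowReg FlatMor67

variable {A : Type u} [CommRing A]

/-- The relations of a chart. -/
theorem ker_aeval_coord {r : ℕ} (f : Fin r → A) (hf : RingTheory.Sequence.IsWeaklyRegular A (List.ofFn f))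
    (i : Fin r) :
    RingHom.ker (aeval (R := A) (coord f i)).toRingHom =
      Ideal.span (Set.range fun j : {j : Fin r // j ≠ i} => C (f i) * X j - C (f j)) := by
  classical
  let Jx := {j : Fin r // j ≠ i}
  set T := Ideal.span (Set.range fun j : Jx => C (f i) * X j - C (f j)) with hT
  let sp := fun (j : Fin r) => IsLocalization.mk'_spec' (Localization.Away (f i)) (f j)
    (⟨f i, Submonoid.mem_powers _⟩ : Submonoid.powers (f i))
  refine le_antisymm (fun x hx => ?_) (Ideal.span_le.2 ?_)
  swap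
  · rintro _ ⟨j, rfl⟩
    rw [SetLike.mem_coe, RingHom.mem_ker]
    apply Subtype.ext
    simp only [AlgHom.toRingHom_eq_coe, RingHom.coe_coe, map_sub, map_mul, aeval_C, aeval_X,
      AddSubgroupClass.coe_sub, Subalgebra.coe_mul, Subalgebra.coe_algebraMap, ZeroMemClass.coe_zero, coord]
    rw [sub_eq_zero]
    exact sp j
  have hx' : aeval (coord f i) x = 0 := hx
  let N := ∑ d ∈ x.support, ∑ j, d j
  have hN : ∀ d ∈ x.support, ∑ j, d j ≤ N := fun d hd =>
    Finset.single_le_sum (f := fun d : Jx →₀ ℕ => ∑ j, d j) (fun _ _ => Nat.zero_le _) hd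
  have h0 := algebraMap_eval_homog f i x hN
  rw [hx', ZeroMemClass.coe_zero, mul_zero] at h0
  obtain ⟨⟨_, M, rfl⟩, hM⟩ := (IsLocalization.map_eq_zero_iff (Submonoid.powers (f i)) _ _).1 h0
  have hlin : X i ^ M * homog i N x ∈ RR50.lin f :=
    RR50.mem_lin_of_eval_eq_zero r f hf (1 * M + N) _
      (((isHomogeneous_X A i).pow M).mul (isHomogeneous_homog i x hN)) (by
        rw [map_mul, map_pow, eval_X]
        exact hM)
  let φ : MvPolynomial (Fin r) A →ₐ[A] MvPolynomial Jx A :=
    aeval fun k => if h : k = i then 1 else X ⟨k, h⟩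
  have hφi : φ (X i) = 1 := by simp [φ]
  have hφj : ∀ j : Jx, φ (X (j : Fin r)) = X j := fun j => by simp [φ, j.2]
  have hφ : φ (homog i N x) = x := by
    conv_rhs => rw [x.as_sum]
    rw [homog, map_sum]
    refine Finset.sum_congr rfl fun d _ => ?_
    rw [monomial_eq, monomial_eq (s := d), map_mul, show φ (C (x.coeff d)) = C (x.coeff d) from aeval_C _ _]
    congr 1
    rw [homExp, Finsupp.prod_add_index' (fun k => pow_zero _) (fun k a b => pow_add _ _ _), map_mul,
      Finsupp.prod_mapDomain_index (fun k => pow_zero _) (fun k a b => pow_add _ _ _),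
      Finsupp.prod_single_index (h := fun k e => (X k : MvPolynomial (Fin r) A) ^ e) (pow_zero _), map_pow, hφi, one_pow, mul_one, map_finsuppProd]
    exact Finsupp.prod_congr fun j _ => by rw [map_pow, hφj]
  have hres : φ (X i ^ M * homog i N x) ∈ T := by
    have hC : ∀ k : Fin r, C (f k) - C (f i) * φ (X k) ∈ T := by
      intro k
      by_cases h : k = i
      · subst h
        rw [hφi, mul_one, sub_self]
        exact zero_mem _
      · rw [← neg_sub, hφj ⟨k, h⟩]
        exact neg_mem (Ideal.subset_span ⟨⟨k, h⟩, rfl⟩)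
    refine ((Ideal.map_le_iff_le_comap (f := φ.toRingHom) (K := T)).1 ?_ hlin :)
    rw [RR50.lin, Ideal.map_span, Ideal.span_le]
    rintro _ ⟨_, ⟨a, b, rfl⟩, rfl⟩
    simp only [AlgHom.toRingHom_eq_coe, RingHom.coe_coe, map_sub, map_mul, SetLike.mem_coe]
    rw [show φ (C (f a)) = C (f a) from aeval_C _ _, show φ (C (f b)) = C (f b) from aeval_C _ _,
      show C (f a) * φ (X b) - C (f b) * φ (X a) =
        φ (X b) * (C (f a) - C (f i) * φ (X a)) - φ (X a) * (C (f b) - C (f i) * φ (X b)) by ring]
    exact Submodule.sub_mem _ (Ideal.mul_mem_left _ _ (hC a)) (Ideal.mul_mem_left _ _ (hC b))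
  rwa [map_mul, map_pow, hφi, one_pow, one_mul, hφ] at hres

/-- The structure map of a chart is perfect. -/
theorem pfH_chart {r : ℕ} (f : Fin r → A) (hf : RingTheory.Sequence.IsWeaklyRegular A (List.ofFn f))
    (i : Fin r) :
    PCS.pfH (algebraMap A (BlowUp.affineAlgebra A (Ideal.span (Set.range f)) (f i))) := by
  classical
  obtain ⟨m, rfl⟩ : ∃ m, r = m + 1 := ⟨r - 1, by have := i.2; omega⟩
  let σ : Fin m ≃ {j : Fin (m + 1) // j ≠ i} := finSuccAboveEquiv i
  have hperm : (f i :: List.ofFn fun k => f (σ k)).Perm (List.ofFn f) := by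
    have h : (i :: List.ofFn fun k => (σ k : Fin (m + 1))).Perm (List.ofFn id) := by
      refine (List.perm_ext_iff_of_nodup ?_ (List.nodup_ofFn.2 Function.injective_id)).2 fun z => ?_
      · refine List.nodup_cons.2 ⟨fun h => ?_, List.nodup_ofFn.2 fun a b h => σ.injective (Subtype.ext h)⟩
        obtain ⟨k, hk⟩ := List.mem_ofFn.1 h
        exact (σ k).2 hk
      · simp only [List.mem_cons, List.mem_ofFn, id_eq, exists_eq, iff_true]
        by_cases hz : z = i
        · exact Or.inl hz
        · exact Or.inr ⟨σ.symm ⟨z, hz⟩, by rw [Equiv.apply_symm_apply]⟩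
    have := h.map f
    simpa [List.map_ofFn, Function.comp_def] using this
  have hk := kR_chart m (f i) (fun k => f (σ k)) ((kR_of_isWeaklyRegular _ hf).perm hperm.symm)
  have hk' := kR_equiv (renameEquiv A σ).toRingEquiv hk
  rw [List.map_ofFn] at hk'
  let g : List (MvPolynomial {j : Fin (m + 1) // j ≠ i} A) := List.ofFn fun k => C (f i) * X (σ k) - C (f (σ k))
  have hg : KR g := by
    convert hk' using 2
    funext k
    simp [renameEquiv_apply, AlgEquiv.toRingEquiv]
  let φ : MvPolynomial {j : Fin (m + 1) // j ≠ i} A →ₐ[A]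
      BlowUp.affineAlgebra A (Ideal.span (Set.range f)) (f i) := aeval (coord f i)
  have hker : RingHom.ker φ.toRingHom = Ideal.ofList g := by
    rw [ker_aeval_coord f hf i, Ideal.ofList]
    refine congrArg Ideal.span (Set.ext fun z => ?_)
    simp only [g, Set.mem_range, Set.mem_ofPred_eq, List.mem_ofFn]
    exact ⟨fun ⟨j, hj⟩ => ⟨σ.symm j, by rw [Equiv.apply_symm_apply]; exact hj⟩, fun ⟨k, hk⟩ => ⟨σ k, hk⟩⟩
  let P := MvPolynomial {j : Fin (m + 1) // j ≠ i} A
  let B := BlowUp.affineAlgebra A (Ideal.span (Set.range f)) (f i)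
  let _ : Algebra P B := φ.toRingHom.toAlgebra
  have : IsScalarTower A P B := IsScalarTower.of_algebraMap_eq fun a => (φ.commutes a).symm
  let e : (P ⧸ Ideal.ofList g) ≃ₗ[P] B :=
    (Submodule.quotEquivOfEq (Ideal.ofList g) (LinearMap.ker (Algebra.linearMap P B)) hker.symm).trans
      ((Algebra.linearMap P B).quotKerEquivOfSurjective (aeval_coord_surjective f i))
  exact PCS.pfH_algebraMap.2 (PCH.perfectHom_of_module P (aeval_coord_surjective f i)
    (PCM.perfect_congr e (FlatMor68.PerfKoszul.perfect_quotient_of_kR g hg)))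

end Groth.Agent.BlowPerf46
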