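import Groth.Agent.Koszul19.BaseChange
import Groth.Agent.Koszul19.Homotopy
import Groth.Agent.FlatMor68.BlowSmoothAlg
import Mathlib.RingTheory.MvPolynomial.Localization
import Mathlib.RingTheory.Localization.BaseChange

/-!
Koszul regularity of the equations `a T_j - b_j` of a chart of a blow-up.
-/

set_option autoImplicit false

universe u

open CategoryTheory

namespace Groth.Agent.BlowPerf46

open Koszul19 MvPolynomial TensorProduct

variable {A : Type u} [CommRing A]

/-- A sequence is Koszul regular if it is so after inverting `M` and stays so after adjoining an element of `M`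
to it. -/
theorem kR_of_localization {B : Type u} [CommRing B] [Algebra A B] (a : A) (l : List A)
    [IsLocalization (Submonoid.powers a) B] (h : KR (a :: l)) (hB : KR (l.map (algebraMap A B))) : KR l := by
  refine kR_of_neg l fun q hq p j hp hj z hz => ?_
  -- multiplication by `a` is injective on cohomology
  have inj : ∀ y : (Koszul.koszul A l).X q, dd _ q j y = 0 → (∃ w, dd (Koszul.koszul A l) p q w = a • y) →
      ∃ w, dd (Koszul.koszul A l) p q w = y := fun y hy ⟨w, hw⟩ =>
    (consData a l).exists_of_ex p q j hp hj (h p (by omega)) y hy (-w) (by rw [map_neg, hw, add_neg_cancel])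
  -- classes die after inverting `a`
  have hL := ((bcKoszul (B := B) l).exact_iff p q j hp hj).1 (hB q (by omega))
  obtain ⟨t, ht⟩ := (hL ((1 : B) ⊗ₜ[A] z)).1 (by rw [LinearMap.lTensor_tmul, hz, tmul_zero])
  let ι := fun (N : ℤ) => TensorProduct.mk A B ((Koszul.koszul A l).X N) 1
  obtain ⟨⟨w, m⟩, hw⟩ := IsLocalizedModule.surj (Submonoid.powers a) (ι p) t
  have h1 : ι q (dd _ p q w) = ι q (m • z) := by
    have e := congrArg ((dd (Koszul.koszul A l) p q).lTensor B) hw
    simp only [Submonoid.smul_def, map_smul, ht] at e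
    simp only [Submonoid.smul_def, ι, map_smul]
    rw [show (TensorProduct.mk A B ((Koszul.koszul A l).X q) 1) z = (1 : B) ⊗ₜ[A] z from rfl, e]
    rfl
  obtain ⟨c, hc⟩ := (IsLocalizedModule.eq_iff_exists (Submonoid.powers a) (ι q)).1 h1
  obtain ⟨k, hk⟩ : ∃ k, (c * m : A) = a ^ k := by
    obtain ⟨k, hk⟩ := (c * m).2
    exact ⟨k, hk.symm⟩
  have hN : ∃ v, dd (Koszul.koszul A l) p q v = a ^ k • z := by
    refine ⟨(c : A) • w, ?_⟩
    simp only [Submonoid.smul_def] at hc
    rw [map_smul, hc, smul_smul, hk]
  clear hc hk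
  induction k with
  | zero => simpa using hN
  | succ k ih =>
    refine ih (inj _ (by rw [map_smul, hz, smul_zero]) ?_)
    simpa [pow_succ', smul_smul] using hN

/-- Koszul regularity is transported by ring isomorphisms. -/
theorem kR_equiv {P Q : Type u} [CommRing P] [CommRing Q] (e : P ≃+* Q) {l : List P} (h : KR l) :
    KR (l.map e) := by
  let _ : Algebra P Q := e.toRingHom.toAlgebra
  have : Module.Flat P Q :=
    Module.Flat.of_linearEquiv (LinearEquiv.ofBijective (Algebra.linearMap P Q) e.bijective).symm
  exact KR.map (B := Q) h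

/-- The variables of a polynomial ring form a Koszul regular sequence. -/
theorem kR_X (R : Type u) [CommRing R] (m : ℕ) :
    KR (List.ofFn fun k : Fin m => (X k : MvPolynomial (Fin m) R)) := by
  have := kR_equiv (renameEquiv R (Equiv.emptySum Empty (Fin m))).toRingEquiv
    (kR_of_isWeaklyRegular _ (FlatMor68.BlowSmoothAlg.isWeaklyRegular_X R Empty m))
  rw [List.map_ofFn] at this
  convert this using 2
  funext k
  exact (rename_X (R := R) (Equiv.emptySum Empty (Fin m)) (Sum.inr k)).symm

/-- Differences of variables and constants form a Koszul regular sequence. -/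
theorem kR_X_sub (R : Type u) [CommRing R] (m : ℕ) (c : Fin m → R) :
    KR (List.ofFn fun k : Fin m => (X k - C (c k) : MvPolynomial (Fin m) R)) := by
  let e : MvPolynomial (Fin m) R ≃ₐ[R] MvPolynomial (Fin m) R :=
    AlgEquiv.ofAlgHom (aeval fun k => X k - C (c k)) (aeval fun k => X k + C (c k))
      (algHom_ext fun k => by simp) (algHom_ext fun k => by simp)
  have := kR_equiv e.toRingEquiv (kR_X R m)
  rw [List.map_ofFn] at this
  convert this using 2
  funext k
  exact (aeval_X (fun k => (X k : MvPolynomial (Fin m) R) - C (c k)) k).symm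

attribute [local instance] algebraMvPolynomial

/-- The equations of a chart form a Koszul regular sequence. -/
theorem kR_chart (m : ℕ) (a : A) (b : Fin m → A) (h : KR (a :: List.ofFn b)) :
    KR (List.ofFn fun k : Fin m => (C a * X k - C (b k) : MvPolynomial (Fin m) A)) := by
  let P := MvPolynomial (Fin m) A
  let g : Fin m → P := fun k => C a * X k - C (b k)
  let Aa := Localization.Away a
  let B := MvPolynomial (Fin m) Aa
  haveI hloc : IsLocalization (Submonoid.powers (C a : P)) B := by
    rw [← Submonoid.map_powers]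
    exact MvPolynomial.isLocalization (Submonoid.powers a) Aa
  refine kR_of_localization (B := B) (C a : P) (List.ofFn g) ?_ ?_
  · refine kR_of_length_le (KR.map (B := P) h) ?_ (by simp)
    simp only [List.map_cons, List.map_ofFn, Ideal.ofList_cons, algebraMap_eq]
    have hs : ∀ v : Fin m → P, Ideal.ofList (List.ofFn v) = Ideal.span (Set.range v) := fun v =>
      congrArg Ideal.span (Set.ext fun z => List.mem_ofFn)
    rw [hs, hs]
    have ha : (C a : P) ∈ Ideal.span {(C a : P)} := Ideal.mem_span_singleton_self _
    refine le_antisymm (sup_le le_sup_left ?_) (sup_le le_sup_left ?_) <;> rw [Ideal.span_le] <;>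
      rintro _ ⟨k, rfl⟩
    · exact Submodule.sub_mem _ (Ideal.mul_mem_right _ _ (Ideal.mem_sup_left ha))
        (Ideal.mem_sup_right (Ideal.subset_span ⟨k, rfl⟩))
    · show (C (b k) : P) ∈ _
      rw [show (C (b k) : P) = C a * X k - g k by simp [g]]
      exact Submodule.sub_mem _ (Ideal.mul_mem_right _ _ (Ideal.mem_sup_left ha))
        (Ideal.mem_sup_right (Ideal.subset_span ⟨k, rfl⟩))
  · obtain ⟨u, hu⟩ := IsLocalization.Away.algebraMap_isUnit (S := Aa) a
    let c : Fin m → Aa := fun k => ↑u⁻¹ * algebraMap A Aa (b k)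
    refine kR_of_length_le (kR_X_sub Aa m c) ?_ (by simp)
    have hmap : ∀ k, algebraMap P B (g k) = C (u : Aa) * (X k - C (c k)) := fun k => by
      show MvPolynomial.map (algebraMap A Aa) (g k) = _
      simp only [g, map_sub, map_mul, map_C, map_X, ← hu, c, mul_sub]
      rw [← mul_assoc (C (u : Aa)) (C (↑u⁻¹ : Aa)), ← map_mul C (u : Aa), Units.mul_inv, map_one, one_mul]
    rw [List.map_ofFn]
    have hs : ∀ v : Fin m → B, Ideal.ofList (List.ofFn v) = Ideal.span (Set.range v) := fun v =>
      congrArg Ideal.span (Set.ext fun z => List.mem_ofFn)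
    rw [hs, hs]
    refine le_antisymm (Ideal.span_le.2 ?_) (Ideal.span_le.2 ?_) <;> rintro _ ⟨k, rfl⟩
    · show algebraMap P B (g k) ∈ _
      rw [hmap]
      exact Ideal.mul_mem_left _ _ (Ideal.subset_span ⟨k, rfl⟩)
    · show (X k - C (c k) : B) ∈ _
      have : (X k - C (c k) : B) = C (↑u⁻¹ : Aa) * algebraMap P B (g k) := by
        rw [hmap, ← mul_assoc, ← map_mul, Units.inv_mul, map_one, one_mul]
      rw [this]
      exact Ideal.mul_mem_left _ _ (Ideal.subset_span ⟨k, rfl⟩)

end Groth.Agent.BlowPerf46
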