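import Groth.Agent.BlowPerf46.Chart
import Groth.Agent.CAlg9.BlowReg.ExcSmooth

/-!
The blow-up in a regularly immersed centre is a perfect morphism.
-/

set_option autoImplicit false
set_option backward.isDefEq.respectTransparency.types false
set_option linter.style.haveILetI false

universe u

open CategoryTheory Limits AlgebraicGeometry TopologicalSpace

namespace Groth.Agent.BlowPerf46

open Groth.Agent.FBlow13 FlatMor67

variable {X Y : Scheme.{u}} (i : Y ⟶ X)

/-- Around every point the centre is cut out by a weakly regular sequence. -/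
theorem exists_regular_chart (hi : Mor2.IsRegularClosedImmersion i) (x : X) :
    ∃ (U : X.Opens) (hU : IsAffineOpen U) (r : ℕ) (f : Fin r → Γ(X, U)), x ∈ U ∧
      RingTheory.Sequence.IsWeaklyRegular Γ(X, U) (List.ofFn f) ∧
      i.ker.ideal ⟨U, hU⟩ = Ideal.span (Set.range f) := by
  haveI := hi.1
  by_cases hx : x ∈ Set.range i
  · obtain ⟨y, rfl⟩ := hx
    obtain ⟨U, hU, hy, rs, hrs, hker⟩ := hi.2 y
    refine ⟨U, hU, rs.length, rs.get, hy, by rw [List.ofFn_get]; exact hrs.1, ?_⟩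
    rw [hker, Ideal.ofList]
    congr 1
    exact (Set.range_list_get rs).symm
  · obtain ⟨U, hU, hxU, hle⟩ := exists_isAffineOpen_mem_and_subset
      (U := ⟨(Set.range i)ᶜ, i.isClosedEmbedding.isClosed_range.isOpen_compl⟩) (x := x) hx
    refine ⟨U, hU, 1, fun _ => 1, hxU, ?_, ?_⟩
    · rw [List.ofFn_succ, List.ofFn_zero, RingTheory.Sequence.isWeaklyRegular_cons_iff]
      exact ⟨IsSMulRegular.one _, RingTheory.Sequence.IsWeaklyRegular.nil _ _⟩
    · have hbot : i ⁻¹ᵁ U = ⊥ := eq_bot_iff.2 fun z hz => absurd ⟨z, rfl⟩ (hle hz)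
      haveI : Subsingleton Γ(Y, i ⁻¹ᵁ U) :=
        CommRingCat.subsingleton_of_isTerminal (hbot ▸ Y.sheaf.isTerminalOfEmpty)
      rw [Set.range_const, Ideal.span_singleton_one, Scheme.Hom.ker_apply i ⟨U, hU⟩]
      exact eq_top_iff.2 fun a _ => Subsingleton.elim (α := Γ(Y, i ⁻¹ᵁ U)) _ _

/-- The blow-up in a regularly immersed centre is perfect. -/
theorem isPerfectMor_of_isBlowUp (hi : Mor2.IsRegularClosedImmersion i) {X' : Scheme.{u}} (b : X' ⟶ X)
    (hb : BlowUp.IsBlowUp b i.ker) : MoreMor.IsPerfectMor b := by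
  haveI := hi.1
  rw [PCS.pfMor_iff_exists]
  intro z
  obtain ⟨U, hU, r, f, hxU, hf, hI⟩ := exists_regular_chart i hi (b z)
  let A := Γ(X, U)
  have hb' := Div89.isBlowUp_flat_baseChange hU.fromSpec hb
  have hJ : i.ker.comap hU.fromSpec = FSch.idealSpec A (Ideal.span (Set.range f)) := by
    rw [Div89.idealSpec_eq_ofIdealTop]
    apply Scheme.IdealSheafData.ext_of_isAffine
    rw [MP99.ideal_comap _ hU.fromSpec ⟨U, hU⟩ ⟨⊤, isAffineOpen_top _⟩ (by simp), hI,
      Scheme.IdealSheafData.ofIdealTop_ideal]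
    erw [(Spec _).presheaf.map_id, CommRingCat.hom_id, Ideal.map_id]
    congr 2
    rw [Scheme.Hom.appLE, IsAffineOpen.fromSpec_app_self]
    simp only [Category.assoc, ← Functor.map_comp]
    erw [(Spec _).presheaf.map_id, Category.comp_id]
    rfl
  rw [hJ] at hb'
  obtain ⟨p, hp⟩ : z ∈ Set.range (pullback.snd hU.fromSpec b) := by
    rw [IsOpenImmersion.range_pullbackSnd]
    show b z ∈ Set.range hU.fromSpec
    rw [hU.range_fromSpec]
    exact hxU
  obtain ⟨i₀, hi₀⟩ := CAlg9.BlowReg.exists_mem_chartOpen_gen f (pullback.fst hU.fromSpec b) hb'.1 p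
  obtain ⟨e, he⟩ := exists_iso_chartOpen (pullback.fst hU.fromSpec b) hb' (Ideal.subset_span (Set.mem_range_self i₀))
  let Q := chartOpen (pullback.fst hU.fromSpec b) (Ideal.span (Set.range f)) (f i₀)
  let B := BlowUp.affineAlgebra A (Ideal.span (Set.range f)) (f i₀)
  let j : Spec (CommRingCat.of B) ⟶ X' := e.hom ≫ Q.ι ≫ pullback.snd hU.fromSpec b
  let α : A ⟶ CommRingCat.of B := CommRingCat.ofHom (algebraMap A B)
  have hj : j ≫ b = Spec.map α ≫ hU.fromSpec := by
    simp only [j, Category.assoc, ← pullback.condition]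
    rw [← Category.assoc Q.ι, ← Category.assoc e.hom]
    congr 1
  let V := j.opensRange
  have hV : IsAffineOpen V := isAffineOpen_opensRange j
  have hzV : z ∈ V := ⟨e.inv ⟨p, hi₀⟩, by
    simp only [j, ← Scheme.Hom.comp_apply, Iso.inv_hom_id_assoc]
    exact hp⟩
  have hVU : V ≤ b ⁻¹ᵁ U := by
    rintro _ ⟨y, rfl⟩
    show (j ≫ b) y ∈ U
    rw [hj]
    have h1 : hU.fromSpec (Spec.map α y) ∈ Set.range hU.fromSpec := ⟨_, rfl⟩
    rw [hU.range_fromSpec] at h1
    exact h1
  let φ := b.appLE U V hVU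
  let θ : Spec Γ(X', V) ≅ Spec (CommRingCat.of B) := IsOpenImmersion.isoOfRangeEq hV.fromSpec j (by
    rw [hV.range_fromSpec]; rfl)
  have hθ : θ.hom ≫ j = hV.fromSpec := IsOpenImmersion.isoOfRangeEq_hom_fac _ _ _
  let η : CommRingCat.of B ⟶ Γ(X', V) := Spec.preimage θ.hom
  have hη : α ≫ η = φ := by
    apply Spec.map_injective
    rw [Spec.map_comp, Spec.map_preimage, ← cancel_mono hU.fromSpec, Category.assoc, ← hj, ← Category.assoc, hθ,
      IsAffineOpen.SpecMap_appLE_fromSpec]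
  have hηinv : IsIso η := by
    have h1 : η ≫ Spec.preimage θ.inv = 𝟙 _ := by
      apply Spec.map_injective
      rw [Spec.map_comp, Spec.map_preimage, Spec.map_preimage, Iso.inv_hom_id, Spec.map_id]
    have h2 : Spec.preimage θ.inv ≫ η = 𝟙 _ := by
      apply Spec.map_injective
      rw [Spec.map_comp, Spec.map_preimage, Spec.map_preimage, Iso.hom_inv_id, Spec.map_id]
    exact ⟨_, h1, h2⟩
  refine ⟨V, U, hVU, hV, hU, hzV, ?_⟩
  show PCS.pfH φ.hom
  rw [← hη]
  exact PCS.pfH_isLocal.respectsIso.1 _ (asIso η).commRingCatIsoToRingEquiv (pfH_chart f hf i₀)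

end Groth.Agent.BlowPerf46
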